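import Groth.Agent.Lib.GQGen14.Separable
import Groth.Agent.Lib.RegSmooth17.Scheme
import Groth.Agent.Lib.GrpdDim19.Smooth
import Groth.Agent.Lib.OrbitTop19.Closed
import Groth.Agent.Lib.Sumihiro14.Open
import Mathlib.AlgebraicGeometry.Morphisms.LocalFlatDescent
import Mathlib.AlgebraicGeometry.Fiber

/-!
# The generic fibre of a geometric quotient is smooth
-/

set_option autoImplicit false
set_option linter.style.haveILetI false
set_option backward.isDefEq.respectTransparency false
set_option backward.isDefEq.respectTransparency.types false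
universe u

open CategoryTheory CategoryTheory.Limits MonoidalCategory CartesianMonoidalCategory MonObj AlgebraicGeometry
open TopologicalSpace Topology

noncomputable section

namespace Groth.Agent.GQGen14

variable {K : Type u} [Field K] {Γ' X Y : Over (Spec (CommRingCat.of K))} [GrpObj Γ'] [Smooth Γ'.hom]
  [IsIntegral X.left] [LocallyOfFiniteType X.hom] {a : AlgGrp.Action Γ' X} {π : X ⟶ Y}

instance locallyOfFiniteType_left : LocallyOfFiniteType π.left :=
  haveI : LocallyOfFiniteType (π.left ≫ Y.hom) := by rw [Over.w]; infer_instance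
  locallyOfFiniteType_of_comp π.left Y.hom

instance lfp_fibre (y : Y.left) : LocallyOfFinitePresentation (π.left.fiberToSpecResidueField y) := by
  haveI : LocallyOfFiniteType (π.left.fiberToSpecResidueField y) :=
    show LocallyOfFiniteType (pullback.snd π.left _) from MorphismProperty.pullback_snd _ _ inferInstance
  exact VarDim.locallyOfFinitePresentation_of_locallyNoetherian _

theorem germ_fromSpecResidueField {Z : Scheme.{u}} (z : Z) {U : Z.Opens} (hz : z ∈ U)
    (h : (⊤ : (Spec (Z.residueField z)).Opens) ≤ Z.fromSpecResidueField z ⁻¹ᵁ U) (r : Γ(Z, U)) :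
    (Z.fromSpecResidueField z).appLE U ⊤ h r =
      (Scheme.ΓSpecIso (Z.residueField z)).inv (Z.residue z (Z.presheaf.germ U z hz r)) := by
  have h' : (⊤ : (Spec (Z.presheaf.stalk z)).Opens) ≤ Z.fromSpecStalk z ⁻¹ᵁ U := fun w _ =>
    Scheme.range_fromSpecStalk (X := Z) (x := z) |>.le ⟨w, rfl⟩ |>.mem_open U.2 hz
  have e1 : (Z.fromSpecResidueField z).appLE U ⊤ h =
      (Z.fromSpecStalk z).appLE U ⊤ h' ≫ (Spec.map (Z.residue z)).appTop := by
    rw [Scheme.Hom.appTop, Scheme.Hom.app_eq_appLE, Scheme.Hom.appLE_comp_appLE]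
    rfl
  rw [e1, CommRingCat.comp_apply, Scheme.Hom.appLE, CommRingCat.comp_apply, Scheme.fromSpecStalk_app hz]
  rw [← CommRingCat.comp_apply (Z.residue z), Scheme.ΓSpecIso_inv_naturality, CommRingCat.comp_apply]
  refine congrArg (Spec.map (Z.residue z)).appTop ?_
  simp only [CommRingCat.comp_apply]
  rw [← CommRingCat.comp_apply _ ((Spec (Z.presheaf.stalk z)).presheaf.map _), ← Functor.map_comp]
  exact congrArg (fun φ : Γ(Spec (Z.presheaf.stalk z), ⊤) ⟶ Γ(Spec (Z.presheaf.stalk z), ⊤) =>
      φ ((Scheme.ΓSpecIso (Z.presheaf.stalk z)).inv (Z.presheaf.germ U z hz r)))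
    ((Spec (Z.presheaf.stalk z)).presheaf.map_id (.op ⊤))

/-- The generic fibre is smooth at its generic point. -/
theorem exists_mem_smoothLocus [IrreducibleSpace Y.left] (hπ : GIT.IsGeomQuot a π) :
    ∃ x, x ∈ (π.left.fiberToSpecResidueField (genericPoint Y.left)).smoothLocus := by
  haveI := isIntegral_base hπ
  have hη := apply_genericPoint hπ
  obtain ⟨x', hx'⟩ := (π.left.range_fiberι (genericPoint Y.left)).ge (show genericPoint X.left ∈ _ from hη)
  refine ⟨x', RegSmooth17.mem_smoothLocus_of_toStalk _ _ ?_⟩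
  let jF := π.left.fiberι (genericPoint Y.left)
  let ζ := π.left.fiberToSpecResidueField (genericPoint Y.left)
  let y₀ := genericPoint Y.left
  haveI : IsPreimmersion jF :=
    show IsPreimmersion (pullback.fst π.left (Y.left.fromSpecResidueField y₀)) from
      MorphismProperty.pullback_fst _ _ inferInstance
  let σ : X.left.functionField ⟶ (π.left.fiber y₀).presheaf.stalk x' :=
    X.left.presheaf.stalkSpecializes (specializes_of_eq hx') ≫ jF.stalkMap x'
  have hσ : Function.Bijective σ.hom := by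
    refine ⟨σ.hom.injective, ?_⟩
    haveI : IsIso (X.left.presheaf.stalkSpecializes (specializes_of_eq hx')) :=
      inferInstanceAs (IsIso (X.left.presheaf.stalkCongr (.of_eq hx'.symm)).hom)
    exact (jF.stalkMap_surjective x').comp (ConcreteCategory.bijective_of_isIso
      (X.left.presheaf.stalkSpecializes (specializes_of_eq hx'))).2
  have hres : Function.Bijective (Y.left.residue y₀).hom := by
    refine ⟨(Y.left.residue y₀).hom.injective, Y.left.residue_surjective y₀⟩
  have hcomp : (RegSmooth17.toStalk ζ x').comp (Y.left.residue y₀).hom = σ.hom.comp (funMap hη).hom := by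
    refine RingHom.ext fun e => ?_
    obtain ⟨V, hV, r, rfl⟩ := Y.left.presheaf.germ_exist e
    have htop : (⊤ : (Spec (Y.left.residueField y₀)).Opens) ≤ Y.left.fromSpecResidueField y₀ ⁻¹ᵁ V := fun w _ => by
      show Y.left.fromSpecResidueField y₀ w ∈ V
      rw [show Y.left.fromSpecResidueField y₀ w = y₀ from (Y.left.range_fromSpecResidueField y₀).le ⟨w, rfl⟩]
      exact hV
    show (ζ.appTop ≫ (π.left.fiber y₀).presheaf.germ ⊤ x' trivial)
      ((Scheme.ΓSpecIso (Y.left.residueField y₀)).inv (Y.left.residue y₀ (Y.left.presheaf.germ V y₀ hV r))) =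
      σ (funMap hη (Y.left.presheaf.germ V (genericPoint Y.left) hV r))
    rw [germ_funMap, ← germ_fromSpecResidueField y₀ hV htop]
    show _ = jF.stalkMap x' (X.left.presheaf.stalkSpecializes (specializes_of_eq hx') _)
    rw [TopCat.Presheaf.germ_stalkSpecializes_apply, Scheme.Hom.germ_stalkMap_apply, CommRingCat.comp_apply]
    have hct : ζ.appTop ((Y.left.fromSpecResidueField y₀).appLE V ⊤ htop r) =
        (ζ ≫ Y.left.fromSpecResidueField y₀).appLE V (ζ ⁻¹ᵁ ⊤) (fun w _ => htop (Opens.mem_top _)) r := by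
      show ζ.app ⊤ _ = _
      rw [Scheme.Hom.app_eq_appLE, ← CommRingCat.comp_apply, Scheme.Hom.appLE_comp_appLE]
    rw [hct]
    have hsq : ζ ≫ Y.left.fromSpecResidueField y₀ = jF ≫ π.left := pullback.condition.symm
    have hc : ∀ {g : π.left.fiber y₀ ⟶ Y.left} (_ : g = jF ≫ π.left) (h),
        (π.left.fiber y₀).presheaf.germ (ζ ⁻¹ᵁ ⊤) x' trivial (g.appLE V _ h r) =
          (π.left.fiber y₀).presheaf.germ (jF ⁻¹ᵁ (π.left ⁻¹ᵁ V)) x'
            (show π.left (jF x') ∈ V by rw [hx', hη]; exact hV) (jF.app _ (π.left.app V r)) := by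
      rintro g rfl h
      rw [Scheme.Hom.appLE, CommRingCat.comp_apply, TopCat.Presheaf.germ_res_apply, ← CommRingCat.comp_apply (π.left.app V),
        ← Scheme.Hom.comp_app]
      rfl
    exact hc hsq _
  have hfs : (σ.hom.comp (funMap hη).hom).FormallySmooth := by
    refine RingHom.FormallySmooth.comp ?_ (RingHom.FormallySmooth.of_bijective hσ)
    letI := (funMap hη).hom.toAlgebra
    rw [← RingHom.algebraMap_toAlgebra (funMap hη).hom, RingHom.formallySmooth_algebraMap]
    haveI := isGeometricallyReduced_funMap hη hπ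
    exact (Sep.formallySmooth_iff_isGeometricallyReduced _ _).2 inferInstance
  rw [← hcomp] at hfs
  have h := RingHom.FormallySmooth.comp (RingHom.FormallySmooth.of_bijective
    (f := (RingEquiv.ofBijective _ hres).symm.toRingHom) (RingEquiv.ofBijective _ hres).symm.bijective) hfs
  have heq : ((RegSmooth17.toStalk ζ x').comp (Y.left.residue y₀).hom).comp
      (RingEquiv.ofBijective _ hres).symm.toRingHom = RegSmooth17.toStalk ζ x' := by
    refine RingHom.ext fun c => ?_
    show RegSmooth17.toStalk ζ x' ((RingEquiv.ofBijective _ hres) ((RingEquiv.ofBijective _ hres).symm c)) = _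
    rw [RingEquiv.apply_symm_apply]
    rfl
  exact heq ▸ h

section Homogeneous

variable (Ω : Type u) [Field Ω] [IsAlgClosed Ω] (s : Spec (CommRingCat.of Ω) ⟶ Y.left)

/-- The base of the geometric fibre. -/
abbrev gBase : Over (Spec (CommRingCat.of K)) := Over.mk (s ≫ Y.hom)

/-- The geometric fibre as a scheme over `K`. -/
abbrev gFib (π : X ⟶ Y) : Over (Spec (CommRingCat.of K)) := Over.mk (pullback.snd π.left s ≫ s ≫ Y.hom)

/-- Its map to the base. -/
def gSnd : gFib Ω s π ⟶ gBase Ω s := Over.homMk (pullback.snd π.left s) rfl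

/-- Its map to the scheme. -/
def gFst : gFib Ω s π ⟶ X :=
  Over.homMk (pullback.fst π.left s) (by
    show pullback.fst π.left s ≫ X.hom = pullback.snd π.left s ≫ s ≫ Y.hom
    rw [← Over.w π, ← Category.assoc, pullback.condition, Category.assoc])

/-- Translation of the geometric fibre. -/
def gTr (hinv : GIT.IsInvariant a π) (g : gBase Ω s ⟶ Γ') : pullback π.left s ⟶ pullback π.left s :=
  pullback.lift (lift (gSnd Ω s ≫ g) (gFst Ω s) ≫ a.act).left (pullback.snd π.left s) (by
    rw [← Over.comp_left, Category.assoc, hinv, ← Category.assoc, lift_snd]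
    exact pullback.condition)

omit [Smooth Γ'.hom] [IsIntegral X.left] [LocallyOfFiniteType X.hom] [IsAlgClosed Ω] in
theorem gTr_mul (hinv : GIT.IsInvariant a π) (g g' : gBase Ω s ⟶ Γ') :
    gTr Ω s hinv g ≫ gTr Ω s hinv g' = gTr Ω s hinv (g' * g) := by
  let t : gFib Ω s π ⟶ gFib Ω s π := Over.homMk (gTr Ω s hinv g) (by
    show gTr Ω s hinv g ≫ pullback.snd π.left s ≫ s ≫ Y.hom = pullback.snd π.left s ≫ s ≫ Y.hom
    rw [← Category.assoc, gTr]
    exact congrArg (· ≫ s ≫ Y.hom) (pullback.lift_snd _ _ _))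
  have h1 : t ≫ gFst Ω s = lift (gSnd Ω s ≫ g) (gFst Ω s) ≫ a.act := Over.OverMorphism.ext (pullback.lift_fst _ _ _)
  have h2 : t ≫ gSnd Ω s = gSnd Ω s := Over.OverMorphism.ext (pullback.lift_snd _ _ _)
  refine pullback.hom_ext ?_ ?_
  · rw [Category.assoc, gTr, gTr, gTr, pullback.lift_fst, pullback.lift_fst]
    refine (congrArg CommaMorphism.left (?_ : t ≫ lift (gSnd Ω s ≫ g') (gFst Ω s) ≫ a.act =
      lift (gSnd Ω s ≫ (g' * g)) (gFst Ω s) ≫ a.act))
    rw [comp_lift_assoc, h1, ← Category.assoc t, h2, MonObj.comp_mul, AlgGrpBasic19.act_mul]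
  · rw [Category.assoc, gTr, gTr, gTr, pullback.lift_snd, pullback.lift_snd, pullback.lift_snd]

omit [Smooth Γ'.hom] [IsIntegral X.left] [LocallyOfFiniteType X.hom] [IsAlgClosed Ω] in
theorem gTr_one (hinv : GIT.IsInvariant a π) : gTr Ω s hinv (1 : gBase Ω s ⟶ Γ') = 𝟙 _ := by
  refine pullback.hom_ext ?_ (by rw [gTr, pullback.lift_snd, Category.id_comp])
  rw [gTr, pullback.lift_fst, Category.id_comp]
  refine (congrArg CommaMorphism.left (?_ : lift (gSnd Ω s ≫ (1 : gBase Ω s ⟶ Γ')) (gFst Ω s) ≫ a.act = gFst Ω s)).trans rfl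
  rw [MonObj.comp_one]
  exact AlgGrpBasic19.act_one a (gFst Ω s)

omit [Smooth Γ'.hom] [IsIntegral X.left] [LocallyOfFiniteType X.hom] [IsAlgClosed Ω] in
theorem isIso_gTr (hinv : GIT.IsInvariant a π) (g : gBase Ω s ⟶ Γ') : IsIso (gTr Ω s hinv g) :=
  ⟨gTr Ω s hinv g⁻¹, by rw [gTr_mul, inv_mul_cancel, gTr_one], by rw [gTr_mul, mul_inv_cancel, gTr_one]⟩

variable (π) in
/-- The geometric fibre map. -/
abbrev gMap : pullback π.left s ⟶ Spec (CommRingCat.of Ω) := pullback.snd π.left s

variable [LocallyOfFinitePresentation (pullback.snd π.left s)]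

/-- Geometric fibres are smooth once smooth somewhere. -/
theorem smooth_of_exists (hπ : GIT.IsGeomQuot a π)
    (h0 : ∃ z, z ∈ (pullback.snd π.left s).smoothLocus) : Smooth (pullback.snd π.left s) := by
  rw [← Scheme.Hom.smoothLocus_eq_top_iff]
  haveI : LocallyOfFiniteType (pullback.snd π.left s) := inferInstance
  haveI : JacobsonSpace (pullback π.left s : Scheme.{u}) := LocallyOfFiniteType.jacobsonSpace (pullback.snd π.left s)
  let Q : Over (Spec (CommRingCat.of Ω)) := Over.mk (pullback.snd π.left s)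
  haveI : LocallyOfFiniteType Q.hom := ‹_›
  refine top_le_iff.1 (Sumihiro14.opens_le_of_closedPoints fun z hz _ => ?_)
  have hne : ((gMap π Ω s).smoothLocus : Set (pullback π.left s : Scheme.{u})).Nonempty := h0
  obtain ⟨v, hv, hvc⟩ := nonempty_inter_closedPoints hne (gMap π Ω s).smoothLocus.isOpen.isLocallyClosed
  obtain ⟨pz, hpz⟩ := OrbitTop19.exists_point Q z hz
  obtain ⟨pv, hpv⟩ := OrbitTop19.exists_point Q v hvc
  have hpz' : pz.left ≫ pullback.snd π.left s = 𝟙 _ := Over.w pz
  have hpv' : pv.left ≫ pullback.snd π.left s = 𝟙 _ := Over.w pv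
  let bz : gBase Ω s ⟶ gFib Ω s π := Over.homMk pz.left (by
    show pz.left ≫ pullback.snd π.left s ≫ s ≫ Y.hom = s ≫ Y.hom
    rw [← Category.assoc, hpz', Category.id_comp])
  let bv : gBase Ω s ⟶ gFib Ω s π := Over.homMk pv.left (by
    show pv.left ≫ pullback.snd π.left s ≫ s ≫ Y.hom = s ≫ Y.hom
    rw [← Category.assoc, hpv', Category.id_comp])
  obtain ⟨g, hg⟩ : ∃ g : gBase Ω s ⟶ Γ', lift g (bz ≫ gFst Ω s) ≫ a.act = bv ≫ gFst Ω s := by
    let w : Spec (CommRingCat.of Ω) ⟶ pullback π.left π.left :=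
      pullback.lift (pv.left ≫ pullback.fst π.left s) (pz.left ≫ pullback.fst π.left s) (by
        rw [Category.assoc, Category.assoc, pullback.condition, ← Category.assoc, ← Category.assoc, hpz', hpv'])
    let Ψ := GIT.PsiY a π hπ.inv
    haveI : Surjective Ψ := ⟨hπ.orbit⟩
    haveI : LocallyOfFiniteType Ψ := by
      haveI : LocallyOfFiniteType ((Γ' ⊗ X).hom) :=
        inferInstanceAs (LocallyOfFiniteType (pullback.fst Γ'.hom X.hom ≫ Γ'.hom))
      haveI : LocallyOfFiniteType (Ψ ≫ pullback.fst π.left π.left ≫ X.hom) := by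
        rw [← Category.assoc, GITQuot.PsiY_fst, Over.w]; infer_instance
      exact locallyOfFiniteType_of_comp Ψ (pullback.fst π.left π.left ≫ X.hom)
    haveI : LocallyOfFiniteType (pullback.snd Ψ w) := MorphismProperty.pullback_snd _ _ inferInstance
    haveI : Surjective (pullback.snd Ψ w) := MorphismProperty.pullback_snd _ _ inferInstance
    haveI : Nonempty (pullback Ψ w : Scheme.{u}) := ⟨((pullback.snd Ψ w).surjective (IsLocalRing.closedPoint Ω)).choose⟩
    haveI : JacobsonSpace (pullback Ψ w : Scheme.{u}) := LocallyOfFiniteType.jacobsonSpace (pullback.snd Ψ w)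
    obtain ⟨q, -, hqc⟩ := nonempty_inter_closedPoints (Z := (Set.univ : Set (pullback Ψ w : Scheme.{u})))
      Set.univ_nonempty isOpen_univ.isLocallyClosed
    let Qw : Over (Spec (CommRingCat.of Ω)) := Over.mk (pullback.snd Ψ w)
    haveI : LocallyOfFiniteType Qw.hom := ‹LocallyOfFiniteType (pullback.snd Ψ w)›
    obtain ⟨pq, -⟩ := OrbitTop19.exists_point Qw q hqc
    have hpq : pq.left ≫ pullback.snd Ψ w = 𝟙 _ := Over.w pq
    let e := pq.left ≫ pullback.fst Ψ w
    have he : e ≫ Ψ = w := by
      show (pq.left ≫ pullback.fst Ψ w) ≫ Ψ = w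
      rw [Category.assoc, pullback.condition, ← Category.assoc, hpq]
      exact Category.id_comp w
    have e1 : e ≫ a.act.left = pv.left ≫ pullback.fst π.left s := by
      rw [← GITQuot.PsiY_fst hπ.inv, ← Category.assoc, he]
      exact pullback.lift_fst _ _ _
    have e2 : e ≫ (snd Γ' X).left = pz.left ≫ pullback.fst π.left s := by
      rw [← GITQuot.PsiY_snd hπ.inv, ← Category.assoc, he]
      exact pullback.lift_snd _ _ _
    let E : gBase Ω s ⟶ Γ' ⊗ X := Over.homMk e (by
      show e ≫ (Γ' ⊗ X).hom = s ≫ Y.hom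
      rw [← Over.w (snd Γ' X), ← Category.assoc, e2, Category.assoc, ← Over.w π, ← Category.assoc (pullback.fst _ _),
        pullback.condition, Category.assoc, ← Category.assoc, hpz', Category.id_comp])
    have hE : E ≫ snd Γ' X = bz ≫ gFst Ω s := Over.OverMorphism.ext e2
    refine ⟨E ≫ fst Γ' X, ?_⟩
    rw [← hE, ← comp_lift, lift_fst_snd, Category.comp_id]
    exact Over.OverMorphism.ext e1
  haveI := isIso_gTr Ω s hπ.inv g
  have hmove : gTr Ω s hπ.inv g z = v := by
    rw [← hpz, ← hpv]
    show (pz.left ≫ gTr Ω s hπ.inv g : Spec (CommRingCat.of Ω) ⟶ pullback π.left s) (IsLocalRing.closedPoint Ω) = _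
    refine congrArg (fun φ : Spec (CommRingCat.of Ω) ⟶ pullback π.left s => φ (IsLocalRing.closedPoint Ω)) ?_
    refine pullback.hom_ext ?_ ?_
    · rw [Category.assoc, gTr, pullback.lift_fst]
      refine congrArg CommaMorphism.left (?_ : bz ≫ lift (gSnd Ω s ≫ g) (gFst Ω s) ≫ a.act = bv ≫ gFst Ω s)
      rw [comp_lift_assoc, ← Category.assoc bz, show bz ≫ gSnd Ω s = 𝟙 _ from Over.OverMorphism.ext hpz',
        Category.id_comp]
      exact hg
    · rw [Category.assoc, gTr, pullback.lift_snd, hpz', hpv']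
  have h : z ∈ gTr Ω s hπ.inv g ⁻¹ᵁ (pullback.snd π.left s).smoothLocus := by
    rw [Scheme.Hom.mem_preimage, hmove]
    exact hv
  rw [Scheme.Hom.preimage_smoothLocus_eq, Sumihiro14.smoothLocus_congr (show gTr Ω s hπ.inv g ≫ pullback.snd π.left s = pullback.snd π.left s from pullback.lift_snd _ _ _)] at h
  exact h

end Homogeneous

/-- The generic fibre of a geometric quotient is smooth. -/
theorem smooth_genericFibre [IrreducibleSpace Y.left] (hπ : GIT.IsGeomQuot a π) :
    Smooth (π.left.fiberToSpecResidueField (genericPoint Y.left)) := by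
  let y₀ := genericPoint Y.left
  let ζ := π.left.fiberToSpecResidueField y₀
  let Ω := AlgebraicClosure (Y.left.residueField y₀)
  let g : Spec (CommRingCat.of Ω) ⟶ Spec (Y.left.residueField y₀) :=
    Spec.map (CommRingCat.ofHom (algebraMap (Y.left.residueField y₀) Ω))
  let s := g ≫ Y.left.fromSpecResidueField y₀
  let ρ : pullback π.left s ⟶ π.left.fiber y₀ :=
    pullback.lift (pullback.fst π.left s) (pullback.snd π.left s ≫ g) (by rw [pullback.condition, Category.assoc])
  have hsq : IsPullback ρ (pullback.snd π.left s) ζ g := by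
    refine IsPullback.of_right (h₁₂ := π.left.fiberι y₀) (h₂₂ := Y.left.fromSpecResidueField y₀) (v₁₃ := π.left) ?_
      (pullback.lift_snd _ _ _) (IsPullback.of_hasPullback _ _)
    rw [show ρ ≫ π.left.fiberι y₀ = pullback.fst π.left s from pullback.lift_fst _ _ _]
    exact IsPullback.of_hasPullback _ _
  haveI : Surjective g := inferInstance
  haveI : Flat g := inferInstance
  haveI : QuasiCompact g := inferInstance
  haveI : LocallyOfFinitePresentation (pullback.snd π.left s) :=
    MorphismProperty.of_isPullback hsq (lfp_fibre (π := π) y₀)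
  obtain ⟨x, hx⟩ := exists_mem_smoothLocus hπ
  haveI : Surjective ρ := MorphismProperty.of_isPullback hsq.flip ‹Surjective g›
  obtain ⟨z, rfl⟩ := ρ.surjective x
  haveI := smooth_of_exists Ω s hπ ⟨z, GrpdSmooth19.mem_smoothLocus_baseChange hsq z hx⟩
  exact MorphismProperty.of_isPullback_of_descendsAlong
    (Q := (@Surjective ⊓ @Flat ⊓ @QuasiCompact : MorphismProperty Scheme)) hsq.flip
    ⟨⟨inferInstance, inferInstance⟩, inferInstance⟩ ‹Smooth (pullback.snd π.left s)›

end Groth.Agent.GQGen14
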