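import Groth.Agent.Lib.SmoothRed.Basic
import Groth.Agent.Lib.GeomRed18.Frob

/-!
# Frobenius independence after a smooth extension
-/

set_option autoImplicit false
set_option linter.style.haveILetI false
universe u

open TensorProduct

namespace Groth.Agent.GQGen14

open GeomRed (FrobK)

/-- Elements independent over `R ^ p` stay independent over `D ^ p`, `D` smooth over the domain `R`. -/
theorem eq_zero_of_sum_pow_smooth {R D : Type u} [CommRing R] [IsDomain R] [CommRing D] [Algebra R D]
    [Algebra.Smooth R D] (p : ℕ) [hp : Fact p.Prime] [CharP R p] {ι : Type*} [Fintype ι] [DecidableEq ι]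
    (ρ : ι → R) (h : ∀ c : ι → R, ∑ i, c i ^ p * ρ i = 0 → c = 0) (d : ι → D)
    (hd : ∑ i, d i ^ p * algebraMap R D (ρ i) = 0) : d = 0 := by
  let L := FractionRing R
  haveI : CharP L p := charP_of_injective_algebraMap (IsFractionRing.injective R L) p
  let L' := FrobK L p
  haveI : CharP L' p := ‹CharP L p›
  letI : Algebra R L' := ((algebraMap L L').comp (algebraMap R L)).toAlgebra
  let y : ι → L' := fun i => algebraMap R L (ρ i)
  have hsmul : ∀ (c : R) (i : ι), c • y i = (show L' from algebraMap R L (c ^ p * ρ i)) := fun c i => by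
    rw [Algebra.smul_def, map_mul, map_pow]
    rfl
  have hy : ∀ i, y i ^ p = algebraMap R L' (ρ i) := fun i => rfl
  let φ : (ι → R) →ₗ[R] L' := Fintype.linearCombination R y
  have hφ : Function.Injective φ := by
    rw [injective_iff_map_eq_zero]
    intro c hc
    refine h c ((injective_iff_map_eq_zero _).1 (IsFractionRing.injective R L) _ ?_)
    rw [map_sum]
    refine Eq.trans ?_ hc
    rw [Fintype.linearCombination_apply]
    exact Finset.sum_congr rfl fun i _ => (hsmul (c i) i).symm
  haveI : IsReduced (L' ⊗[R] D) := SmoothRed.isReduced_of_smooth L' (L' ⊗[R] D)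
  haveI : CharP (L' ⊗[R] D) p ∨ Subsingleton (L' ⊗[R] D) := by
    rcases subsingleton_or_nontrivial (L' ⊗[R] D) with hs | hn
    · exact Or.inr hs
    · exact Or.inl (charP_of_injective_algebraMap (algebraMap L' (L' ⊗[R] D)).injective p)
  have h0 : (∑ i, y i ⊗ₜ[R] d i : L' ⊗[R] D) = 0 := by
    rcases this with hc | hs
    · haveI : ExpChar (L' ⊗[R] D) p := ExpChar.prime hp.out
      refine IsNilpotent.eq_zero ⟨p, ?_⟩
      rw [sum_pow_char]
      calc ∑ i, (y i ⊗ₜ[R] d i) ^ p = ∑ i, (1 : L') ⊗ₜ[R] (d i ^ p * algebraMap R D (ρ i)) := by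
            refine Finset.sum_congr rfl fun i _ => ?_
            rw [Algebra.TensorProduct.tmul_pow, hy, mul_comm, ← Algebra.smul_def, ← TensorProduct.smul_tmul,
              Algebra.smul_def, mul_one]
        _ = 0 := by rw [← TensorProduct.tmul_sum, hd, tmul_zero]
    · exact Subsingleton.elim _ _
  have hw : (∑ i, Pi.single i (1 : R) ⊗ₜ[R] d i : (ι → R) ⊗[R] D) = 0 := by
    refine Module.Flat.rTensor_preserves_injective_linearMap φ hφ ?_
    rw [map_zero, map_sum, ← h0]
    simp only [LinearMap.rTensor_tmul, φ, Fintype.linearCombination_apply_single, one_smul]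
  funext j
  have h2 := congrArg (fun v => TensorProduct.lid R D ((LinearMap.proj j).rTensor D v)) hw
  simp only [map_sum, map_zero, LinearMap.rTensor_tmul, TensorProduct.lid_tmul, LinearMap.proj_apply] at h2
  rw [Finset.sum_eq_single j (fun b _ hb => by rw [Pi.single_eq_of_ne hb.symm, zero_smul])
    (fun h => absurd (Finset.mem_univ _) h), Pi.single_eq_same, one_smul] at h2
  exact h2

/-- Reducedness after a Frobenius twist from independence over `p`-th powers. -/
theorem isReduced_tensor_frobK {E L : Type u} [Field E] [Field L] [Algebra E L] (p : ℕ) [hp : Fact p.Prime]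
    [CharP E p] (h : ∀ (ι : Type u) (s : Finset ι) (y : ι → E),
      (∀ c : ι → E, ∑ i ∈ s, c i ^ p * y i = 0 → ∀ i ∈ s, c i = 0) →
      ∀ f : ι → L, ∑ i ∈ s, f i ^ p * algebraMap E L (y i) = 0 → ∀ i ∈ s, f i = 0) :
    IsReduced (L ⊗[E] FrobK E p) := by
  haveI : CharP (L ⊗[E] FrobK E p) p := charP_of_injective_algebraMap (algebraMap E (L ⊗[E] FrobK E p)).injective p
  haveI : ExpChar (L ⊗[E] FrobK E p) p := ExpChar.prime hp.out
  rw [isReduced_iff_pow_one_lt p hp.out.one_lt]
  intro x hx
  classical
  let B := Module.Basis.ofVectorSpace E (FrobK E p)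
  let g := TensorProduct.equivFinsuppOfBasisRight B x
  have hg : g.sum (fun i m => m ⊗ₜ[E] B i) = x := by
    rw [← TensorProduct.equivFinsuppOfBasisRight_symm_apply, LinearEquiv.symm_apply_apply]
  let y : _ → E := fun i => (show E from B i)
  have hy : ∀ i, B i ^ p = algebraMap E (FrobK E p) (y i) := fun i => rfl
  have hind : ∀ c : _ → E, ∑ i ∈ g.support, c i ^ p * y i = 0 → ∀ i ∈ g.support, c i = 0 := fun c hc =>
    linearIndependent_iff'.1 B.linearIndependent g.support c (by
      refine Eq.trans (Finset.sum_congr rfl fun i _ => ?_) hc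
      rw [Algebra.smul_def]
      rfl)
  have hrel : ∑ i ∈ g.support, g i ^ p * algebraMap E L (y i) = 0 := by
    refine (Algebra.TensorProduct.includeLeft_injective (S := E) (algebraMap E (FrobK E p)).injective :
      Function.Injective (Algebra.TensorProduct.includeLeft : L →ₐ[E] L ⊗[E] FrobK E p)) ?_
    rw [map_zero, map_sum]
    refine Eq.trans ?_ hx
    rw [← hg, Finsupp.sum, sum_pow_char]
    refine Finset.sum_congr rfl fun i _ => ?_
    rw [Algebra.TensorProduct.tmul_pow, hy, ← mul_one (algebraMap E (FrobK E p) (y i)), ← Algebra.smul_def,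
      ← TensorProduct.smul_tmul, Algebra.smul_def, mul_comm]
    rfl
  have hzero := h _ g.support y hind (fun i => g i) hrel
  rw [← hg, Finsupp.sum]
  exact Finset.sum_eq_zero fun i hi => by rw [hzero i hi, zero_tmul]

end Groth.Agent.GQGen14
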