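import Groth.Agent.Lib.GITQuot.Basic
import Groth.Agent.Lib.AlgGrpBasic19.Basic
import Groth.Agent.Lib.ModM1.Loc
import Groth.Agent.Lib.GeomRed18.Smooth
import Mathlib.AlgebraicGeometry.FunctionField
import Mathlib.AlgebraicGeometry.Morphisms.FlatDescent
import Mathlib.AlgebraicGeometry.Geometrically.Reduced
import Mathlib.AlgebraicGeometry.Morphisms.Smooth

/-!
# Invariant rational functions descend to a geometric quotient
-/

set_option autoImplicit false
set_option linter.style.haveILetI false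
set_option backward.isDefEq.respectTransparency false
set_option backward.isDefEq.respectTransparency.types false
universe u

open CategoryTheory CategoryTheory.Limits MonoidalCategory CartesianMonoidalCategory AlgebraicGeometry
open TopologicalSpace Topology

noncomputable section

namespace Groth.Agent.GQGen14

/-- Functions on a reduced scheme agreeing on a dense open are equal. -/
theorem eq_of_dense {P : Scheme.{u}} [IsReduced P] {O W : P.Opens} (hW : Dense (W : Set P)) (a b : Γ(P, O))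
    (h : P.presheaf.map (homOfLE (inf_le_left : O ⊓ W ≤ O)).op a =
      P.presheaf.map (homOfLE (inf_le_left : O ⊓ W ≤ O)).op b) : a = b := by
  rw [← sub_eq_zero, ← basicOpen_eq_bot_iff]
  by_contra hne
  obtain ⟨x, hxW, hx⟩ := hW.exists_mem_open (P.basicOpen (a - b)).2
    (Set.nonempty_iff_ne_empty.2 fun he => hne (Opens.ext he))
  have h1 : x ∈ P.basicOpen (P.presheaf.map (homOfLE (inf_le_left : O ⊓ W ≤ O)).op (a - b)) :=
    (P.basicOpen_res _ _).ge ⟨⟨P.basicOpen_le _ hx, hxW⟩, hx⟩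
  rw [map_sub, h, sub_self, Scheme.basicOpen_zero] at h1
  exact h1

/-- Equal pullbacks pass to smaller opens. -/
theorem appLE_res {P Q : Scheme.{u}} (f : P ⟶ Q) {U V : Q.Opens} (hVU : V ≤ U) {O : P.Opens}
    (hO : O ≤ f ⁻¹ᵁ V) (a : Γ(Q, U)) :
    f.appLE V O hO (Q.presheaf.map (homOfLE hVU).op a) = f.appLE U O (hO.trans (f.preimage_mono hVU)) a := by
  rw [← CommRingCat.comp_apply, Scheme.Hom.map_appLE]

theorem res_appLE {P Q : Scheme.{u}} (f : P ⟶ Q) {U : Q.Opens} {O O' : P.Opens} (hO : O ≤ f ⁻¹ᵁ U) (h : O' ≤ O)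
    (a : Γ(Q, U)) : P.presheaf.map (homOfLE h).op (f.appLE U O hO a) = f.appLE U O' (h.trans hO) a := by
  rw [← CommRingCat.comp_apply, Scheme.Hom.appLE_map]

/-- The key descent step: divisibility may be checked after a flat surjective map of local rings. -/
theorem dvd_of_stalkMap {P Q : Scheme.{u}} (f : P ⟶ Q) [Flat f] (z : P) (c e : Q.presheaf.stalk (f z))
    (h : f.stalkMap z e ∣ f.stalkMap z c) : e ∣ c := by
  algebraize [(f.stalkMap z).hom]
  haveI : Module.Flat (Q.presheaf.stalk (f z)) (P.presheaf.stalk z) := Flat.stalkMap f z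
  haveI : IsLocalHom (algebraMap (Q.presheaf.stalk (f z)) (P.presheaf.stalk z)) :=
    inferInstanceAs (IsLocalHom (f.stalkMap z).hom)
  haveI := Module.FaithfullyFlat.of_flat_of_isLocalHom (A := Q.presheaf.stalk (f z)) (B := P.presheaf.stalk z)
  rw [← Ideal.mem_span_singleton] at h ⊢
  rw [← Ideal.comap_map_eq_self_of_faithfullyFlat (B := P.presheaf.stalk z) (Ideal.span {e}), Ideal.mem_comap,
    Ideal.map_span, Set.image_singleton]
  exact h

variable {K : Type u} [Field K] {Γ' X Y : Over (Spec (CommRingCat.of K))} [GrpObj Γ'] [Smooth Γ'.hom]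
  [IsIntegral X.left] [LocallyOfFiniteType X.hom] (a : AlgGrp.Action Γ' X)

instance smooth_snd : Smooth (snd Γ' X).left :=
  inferInstanceAs (Smooth (pullback.snd Γ'.hom X.hom))

theorem smooth_act : Smooth a.act.left := by
  have h : a.act.left = (AlgGrpBasic19.shear a).hom.left ≫ (snd Γ' X).left := by
    rw [← Over.comp_left]
    exact congrArg CommaMorphism.left (lift_snd (fst Γ' X) a.act).symm
  haveI : IsIso (AlgGrpBasic19.shear a).hom.left :=
    inferInstanceAs (IsIso ((Over.forget _).mapIso (AlgGrpBasic19.shear a)).hom)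
  rw [h]
  infer_instance

instance isReduced_prod : IsReduced (Γ' ⊗ X).left := by
  letI : Γ'.left.Over (Spec (CommRingCat.of K)) := ⟨Γ'.hom⟩
  haveI : Smooth (Γ'.left ↘ Spec (CommRingCat.of K)) := ‹Smooth Γ'.hom›
  haveI h : GeometricallyReduced Γ'.hom := GeomRed.geometricallyReduced_of_smooth (k := K) (X := Γ'.left)
  haveI : GeometricallyReduced (snd Γ' X).left :=
    show GeometricallyReduced (pullback.snd Γ'.hom X.hom) from MorphismProperty.pullback_snd _ _ h
  haveI : IsLocallyNoetherian X.left := LocallyOfFiniteType.isLocallyNoetherian X.hom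
  exact GeometricallyReduced.isReduced_of_flat_of_isLocallyNoetherian (snd Γ' X).left

/-- The overlap of the two preimages. -/
abbrev ovl (U : X.left.Opens) : (Γ' ⊗ X).left.Opens := a.act.left ⁻¹ᵁ U ⊓ (snd Γ' X).left ⁻¹ᵁ U

/-- A function invariant where both pullbacks are defined. -/
def InvOn {U : X.left.Opens} (t : Γ(X.left, U)) : Prop :=
  a.act.left.appLE U (ovl a U) inf_le_left t = (snd Γ' X).left.appLE U (ovl a U) inf_le_right t

theorem dense_ovl {U : X.left.Opens} (hU : (U : Set X.left).Nonempty) : Dense (ovl a U : Set (Γ' ⊗ X).left) := by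
  haveI := smooth_act a
  have hd : Dense (U : Set X.left) := U.2.dense hU
  exact (hd.preimage a.act.left.isOpenMap).inter_of_isOpen_left (hd.preimage (snd Γ' X).left.isOpenMap)
    (U.2.preimage a.act.left.continuous)

variable {a}

/-- Extensions of invariant functions are invariant. -/
theorem InvOn.extend {U V : X.left.Opens} {t : Γ(X.left, U)} (ht : InvOn a t) (hU : (U : Set X.left).Nonempty)
    {s : Γ(X.left, V)}
    (hs : X.left.presheaf.map (homOfLE (inf_le_left : V ⊓ U ≤ V)).op s =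
      X.left.presheaf.map (homOfLE (inf_le_right : V ⊓ U ≤ U)).op t) : InvOn a s := by
  refine eq_of_dense (dense_ovl a hU) _ _ ?_
  have h1 : ovl a V ⊓ ovl a U ≤ a.act.left ⁻¹ᵁ (V ⊓ U) := fun z hz => ⟨hz.1.1, hz.2.1⟩
  have h2 : ovl a V ⊓ ovl a U ≤ (snd Γ' X).left ⁻¹ᵁ (V ⊓ U) := fun z hz => ⟨hz.1.2, hz.2.2⟩
  rw [res_appLE, res_appLE]
  have e1 := congrArg (a.act.left.appLE (V ⊓ U) _ h1) hs
  have e2 := congrArg ((snd Γ' X).left.appLE (V ⊓ U) _ h2) hs
  simp only [appLE_res] at e1 e2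
  rw [e1, e2, ← res_appLE a.act.left (U := U) inf_le_left (inf_le_right : ovl a V ⊓ ovl a U ≤ ovl a U),
    ← res_appLE (snd Γ' X).left (U := U) inf_le_right (inf_le_right : ovl a V ⊓ ovl a U ≤ ovl a U), ht]

variable (a)

/-- Opens on which a given function extends. -/
def Ext {U : X.left.Opens} (t : Γ(X.left, U)) : Type u :=
  {p : Σ V : X.left.Opens, Γ(X.left, V) //
    X.left.presheaf.map (homOfLE (inf_le_left : p.1 ⊓ U ≤ p.1)).op p.2 =
      X.left.presheaf.map (homOfLE (inf_le_right : p.1 ⊓ U ≤ U)).op t}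

/-- The domain of a rational function. -/
def dom {U : X.left.Opens} (t : Γ(X.left, U)) : X.left.Opens := ⨆ p : Ext t, p.1.1

theorem exists_dom_section {U : X.left.Opens} (hU : (U : Set X.left).Nonempty) (t : Γ(X.left, U)) :
    ∃ s : Γ(X.left, dom t), X.left.presheaf.map (homOfLE (inf_le_left : dom t ⊓ U ≤ dom t)).op s =
      X.left.presheaf.map (homOfLE (inf_le_right : dom t ⊓ U ≤ U)).op t := by
  have hd : Dense (U : Set X.left) := U.2.dense hU
  have hc : X.left.presheaf.IsCompatible (fun p : Ext t => p.1.1) fun p => p.1.2 := fun p q => by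
    refine eq_of_dense hd _ _ ?_
    have h1 := congrArg (X.left.presheaf.map (homOfLE (show (p.1.1 ⊓ q.1.1) ⊓ U ≤ p.1.1 ⊓ U from
      inf_le_inf_right _ inf_le_left)).op) p.2
    have h2 := congrArg (X.left.presheaf.map (homOfLE (show (p.1.1 ⊓ q.1.1) ⊓ U ≤ q.1.1 ⊓ U from
      inf_le_inf_right _ inf_le_right)).op) q.2
    simp only [← CommRingCat.comp_apply, ← Functor.map_comp] at h1 h2 ⊢
    exact h1.trans h2.symm
  obtain ⟨s, hs, -⟩ := X.left.sheaf.existsUnique_gluing (fun p : Ext t => p.1.1) (fun p => p.1.2) hc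
  refine ⟨s, X.left.sheaf.eq_of_locally_eq' (fun p : Ext t => p.1.1 ⊓ U) (dom t ⊓ U)
    (fun p => homOfLE (inf_le_inf_right _ (le_iSup (fun p : Ext t => p.1.1) p))) ?_ _ _ fun p => ?_⟩
  · rw [dom, iSup_inf_eq]
  · have hsp : X.left.presheaf.map (homOfLE (le_iSup (fun p : Ext t => p.1.1) p)).op s = p.1.2 := hs p
    have h1 := congrArg (X.left.presheaf.map (homOfLE (inf_le_left : p.1.1 ⊓ U ≤ p.1.1)).op) hsp
    have h2 := p.2
    show X.left.presheaf.map _ (X.left.presheaf.map _ s) = X.left.presheaf.map _ (X.left.presheaf.map _ t)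
    rw [← CommRingCat.comp_apply, ← CommRingCat.comp_apply, ← Functor.map_comp, ← Functor.map_comp]
    rw [← CommRingCat.comp_apply, ← Functor.map_comp] at h1
    exact h1.trans h2

variable {a}

/-- A point lies in the domain as soon as a translate does. -/
theorem mem_dom_of_translate {U : X.left.Opens} (hU : (U : Set X.left).Nonempty) {t : Γ(X.left, U)}
    (f g : (Γ' ⊗ X).left ⟶ X.left) [Flat f]
    (hd : Dense ((f ⁻¹ᵁ U ⊓ g ⁻¹ᵁ U : (Γ' ⊗ X).left.Opens) : Set (Γ' ⊗ X).left))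
    (ht : f.appLE U (f ⁻¹ᵁ U ⊓ g ⁻¹ᵁ U) inf_le_left t = g.appLE U (f ⁻¹ᵁ U ⊓ g ⁻¹ᵁ U) inf_le_right t)
    {z : (Γ' ⊗ X).left} (hz : g z ∈ dom t) : f z ∈ dom t := by
  obtain ⟨s, hs⟩ := exists_dom_section hU t
  -- a fraction for `t` near the point
  obtain ⟨_, ⟨V, hV, rfl⟩, hxV, -⟩ :=
    X.left.isBasis_affineOpens.exists_subset_of_mem_open (Set.mem_univ (f z)) isOpen_univ
  haveI : Nonempty V := ⟨⟨_, hxV⟩⟩
  haveI : Nonempty U := hU.to_subtype
  haveI := functionField_isFractionRing_of_isAffineOpen X.left V hV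
  obtain ⟨⟨c, e⟩, hce⟩ := IsLocalization.surj (nonZeroDivisors Γ(X.left, V)) (X.left.germToFunctionField U t)
  have hce' : X.left.presheaf.map (homOfLE (inf_le_left : V ⊓ U ≤ V)).op c =
      X.left.presheaf.map (homOfLE (inf_le_left : V ⊓ U ≤ V)).op (e : Γ(X.left, V)) *
        X.left.presheaf.map (homOfLE (inf_le_right : V ⊓ U ≤ U)).op t := by
    have hne : genericPoint X.left ∈ V ⊓ U := ((genericPoint_spec X.left).mem_open_set_iff (V ⊓ U).2).2
      (by
        obtain ⟨w, hw, hw'⟩ := (V.2.dense ⟨_, hxV⟩).inter_open_nonempty _ U.2 hU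
        exact ⟨w, trivial, hw', hw⟩)
    apply germ_injective_of_isIntegral X.left (genericPoint X.left) hne
    rw [map_mul, TopCat.Presheaf.germ_res_apply, TopCat.Presheaf.germ_res_apply,
      TopCat.Presheaf.germ_res_apply, mul_comm]
    exact hce.symm
  let O : (Γ' ⊗ X).left.Opens := f ⁻¹ᵁ V ⊓ g ⁻¹ᵁ dom t
  have key : f.appLE V O inf_le_left c = f.appLE V O inf_le_left (e : Γ(X.left, V)) * g.appLE _ O inf_le_right s := by
    refine eq_of_dense hd _ _ ?_
    rw [map_mul, res_appLE, res_appLE, res_appLE]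
    let O' := O ⊓ (f ⁻¹ᵁ U ⊓ g ⁻¹ᵁ U)
    have h1 : O' ≤ f ⁻¹ᵁ (V ⊓ U) := fun w hw => ⟨hw.1.1, hw.2.1⟩
    have h2 : O' ≤ g ⁻¹ᵁ (dom t ⊓ U) := fun w hw => ⟨hw.1.2, hw.2.2⟩
    have e1 := congrArg (f.appLE (V ⊓ U) O' h1) hce'
    have e2 := congrArg (g.appLE (dom t ⊓ U) O' h2) hs
    simp only [map_mul, appLE_res] at e1 e2
    rw [e1, e2, ← res_appLE f (U := U) inf_le_left (inf_le_right : O' ≤ f ⁻¹ᵁ U ⊓ g ⁻¹ᵁ U),
      ← res_appLE g (U := U) inf_le_right (inf_le_right : O' ≤ f ⁻¹ᵁ U ⊓ g ⁻¹ᵁ U), ht]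
  have hzO : z ∈ O := ⟨hxV, hz⟩
  have hdvd : f.stalkMap z (X.left.presheaf.germ V (f z) hxV (e : Γ(X.left, V))) ∣
      f.stalkMap z (X.left.presheaf.germ V (f z) hxV c) := by
    refine ⟨(Γ' ⊗ X).left.presheaf.germ O z hzO (g.appLE _ O inf_le_right s), ?_⟩
    have h : ∀ x, f.stalkMap z (X.left.presheaf.germ V (f z) hxV x) =
        (Γ' ⊗ X).left.presheaf.germ O z hzO (f.appLE V O inf_le_left x) := fun x => by
      rw [Scheme.Hom.germ_stalkMap_apply, Scheme.Hom.appLE, CommRingCat.comp_apply, TopCat.Presheaf.germ_res_apply]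
    rw [h, h, key, map_mul]
  obtain ⟨d, hd'⟩ := dvd_of_stalkMap f z _ _ hdvd
  obtain ⟨V₁, hxV₁, s₁, rfl⟩ := X.left.presheaf.germ_exist d
  rw [← X.left.presheaf.germ_res_apply (homOfLE (inf_le_left : V ⊓ V₁ ≤ V)) (f z) ⟨hxV, hxV₁⟩ c,
    ← X.left.presheaf.germ_res_apply (homOfLE (inf_le_left : V ⊓ V₁ ≤ V)) (f z) ⟨hxV, hxV₁⟩ (e : Γ(X.left, V)),
    ← X.left.presheaf.germ_res_apply (homOfLE (inf_le_right : V ⊓ V₁ ≤ V₁)) (f z) ⟨hxV, hxV₁⟩ s₁, ← map_mul] at hd'
  obtain ⟨V₂, hxV₂, i₁, i₂, heq⟩ := X.left.presheaf.germ_eq (f z) _ _ _ _ hd'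
  refine Opens.mem_iSup.2 ⟨⟨⟨V₂, X.left.presheaf.map (homOfLE (i₁.le.trans inf_le_right)).op s₁⟩, ?_⟩, hxV₂⟩
  by_cases hne : ((V₂ ⊓ U : X.left.Opens) : Set X.left).Nonempty
  · haveI : Nonempty (V₂ ⊓ U : X.left.Opens) := hne.to_subtype
    have hη : genericPoint X.left ∈ V₂ ⊓ U := ((genericPoint_spec X.left).mem_open_set_iff (V₂ ⊓ U).2).2 (by simpa using hne)
    apply germ_injective_of_isIntegral X.left (genericPoint X.left) hη
    simp only [TopCat.Presheaf.germ_res_apply]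
    have he : algebraMap Γ(X.left, V) X.left.functionField (e : Γ(X.left, V)) ≠ 0 :=
      (IsLocalization.map_units X.left.functionField e).ne_zero
    refine mul_left_cancel₀ he ?_
    have h2 := congrArg (X.left.presheaf.germ V₂ (genericPoint X.left) hη.1) heq
    simp only [map_mul, TopCat.Presheaf.germ_res_apply] at h2
    refine h2.symm.trans ?_
    rw [mul_comm]
    exact hce.symm
  · exact TopCat.Presheaf.section_ext X.left.sheaf (V₂ ⊓ U) _ _ fun x hx => absurd ⟨x, hx⟩ hne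

/-- An invariant rational function comes from the quotient. -/
theorem exists_of_invOn {π : X ⟶ Y} (hπ : GIT.IsGeomQuot a π) {U : X.left.Opens} (hU : (U : Set X.left).Nonempty)
    {t : Γ(X.left, U)} (ht : InvOn a t) :
    ∃ (V : Y.left.Opens) (r : Γ(Y.left, V)) (hV : genericPoint X.left ∈ π.left ⁻¹ᵁ V)
      (hη : genericPoint X.left ∈ U),
      X.left.presheaf.germ (π.left ⁻¹ᵁ V) (genericPoint X.left) hV (π.left.app V r) =
        X.left.presheaf.germ U (genericPoint X.left) hη t := by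
  haveI := smooth_act a
  have hfwd : ∀ z, (snd Γ' X).left z ∈ dom t → a.act.left z ∈ dom t := fun z hz =>
    mem_dom_of_translate hU a.act.left (snd Γ' X).left (dense_ovl a hU) ht hz
  have hsat : π.left.base ⁻¹' (π.left.base '' (dom t : Set X.left)) = (dom t : Set X.left) := by
    refine (Set.subset_preimage_image _ _).antisymm' ?_
    rintro x' ⟨x, hx, hxx'⟩
    obtain ⟨w, hw1, hw2⟩ := Scheme.Pullback.exists_preimage_pullback x' x (f := π.left) (g := π.left) hxx'.symm
    obtain ⟨z, hz⟩ := hπ.orbit w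
    have e1 : a.act.left z = x' := by
      rw [← hw1, ← hz, ← Scheme.Hom.comp_apply]
      exact congrArg (fun φ : (Γ' ⊗ X).left ⟶ X.left => φ z) (pullback.lift_fst _ _ _).symm
    have e2 : (snd Γ' X).left z = x := by
      rw [← hw2, ← hz, ← Scheme.Hom.comp_apply]
      exact congrArg (fun φ : (Γ' ⊗ X).left ⟶ X.left => φ z) (pullback.lift_snd _ _ _).symm
    rw [← e1]
    exact hfwd z (e2 ▸ hx)
  let V : Y.left.Opens := ⟨π.left.base '' (dom t : Set X.left),
    (GITQuot.isQuotientMap hπ).isOpen_preimage.1 (hsat.symm ▸ (dom t).2)⟩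
  have hpre : π.left ⁻¹ᵁ V = dom t := Opens.ext hsat
  obtain ⟨s, hs⟩ := exists_dom_section hU t
  have hsinv : InvOn a s := ht.extend hU hs
  let s' : Γ(X.left, π.left ⁻¹ᵁ V) := X.left.presheaf.map (eqToHom hpre).op s
  have hs' : GIT.IsInvSection a π V s' := by
    show InvOn a s'
    refine hsinv.extend ?_ ?_
    · obtain ⟨x, hx⟩ := hU
      refine ⟨x, Opens.mem_iSup.2 ⟨⟨⟨U, t⟩, ?_⟩, hx⟩⟩
      rfl
    · simp only [s', ← CommRingCat.comp_apply, ← Functor.map_comp]
      rfl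
  obtain ⟨r, hr⟩ := (hπ.sections V).2.ge hs'
  haveI : Nonempty U := hU.to_subtype
  have hη : genericPoint X.left ∈ U := ((genericPoint_spec X.left).mem_open_set_iff U.2).2 (by simpa using hU)
  have hηd : genericPoint X.left ∈ dom t := Opens.mem_iSup.2 ⟨⟨⟨U, t⟩, rfl⟩, hη⟩
  refine ⟨V, r, hpre.ge hηd, hη, ?_⟩
  rw [hr]
  have h1 := congrArg (X.left.presheaf.germ (dom t ⊓ U) _ ⟨hηd, hη⟩) hs
  simp only [TopCat.Presheaf.germ_res_apply] at h1
  simp only [s', TopCat.Presheaf.germ_res_apply]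
  exact h1

end Groth.Agent.GQGen14
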