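import Groth.Agent.Lib.GQGen14.Invariant
import Groth.Agent.Lib.GQGen14.Frob
import Groth.Agent.Lib.Sep.Basic

/-!
# The function field of a variety is separable over that of a geometric quotient
-/

set_option autoImplicit false
set_option linter.style.haveILetI false
set_option backward.isDefEq.respectTransparency false
set_option backward.isDefEq.respectTransparency.types false
universe u

open CategoryTheory CategoryTheory.Limits MonoidalCategory CartesianMonoidalCategory AlgebraicGeometry
open TopologicalSpace Topology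

noncomputable section

namespace Groth.Agent.GQGen14

variable {K : Type u} [Field K] {Γ' X Y : Over (Spec (CommRingCat.of K))} [GrpObj Γ'] [Smooth Γ'.hom]
  [IsIntegral X.left] [LocallyOfFiniteType X.hom] {a : AlgGrp.Action Γ' X} {π : X ⟶ Y}

theorem apply_genericPoint [IrreducibleSpace Y.left] (hπ : GIT.IsGeomQuot a π) :
    π.left (genericPoint X.left) = genericPoint Y.left := by
  obtain ⟨x, hx⟩ := hπ.surj (genericPoint Y.left)
  have h1 : genericPoint Y.left ⤳ π.left (genericPoint X.left) :=
    (genericPoint_spec Y.left).specializes trivial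
  have h2 : π.left (genericPoint X.left) ⤳ genericPoint Y.left := by
    rw [← hx]
    exact ((genericPoint_spec X.left).specializes trivial).map π.left.continuous
  exact (h2.antisymm h1).eq

theorem isIntegral_base [IrreducibleSpace Y.left] (hπ : GIT.IsGeomQuot a π) : IsIntegral Y.left := by
  haveI : ∀ U : Y.left.Opens, _root_.IsReduced Γ(Y.left, U) := fun U =>
    isReduced_of_injective (π.left.app U).hom (hπ.sections U).1
  haveI : IsReduced Y.left := ⟨fun U => inferInstance⟩
  exact isIntegral_of_irreducibleSpace_of_isReduced Y.left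

variable [IsIntegral Y.left] (hη : π.left (genericPoint X.left) = genericPoint Y.left)

/-- The extension of function fields. -/
def funMap : Y.left.functionField ⟶ X.left.functionField :=
  Y.left.presheaf.stalkSpecializes (specializes_of_eq hη) ≫ π.left.stalkMap (genericPoint X.left)

theorem germ_funMap (V : Y.left.Opens) (hV : genericPoint Y.left ∈ V) (r : Γ(Y.left, V)) :
    funMap hη (Y.left.presheaf.germ V (genericPoint Y.left) hV r) =
      X.left.presheaf.germ (π.left ⁻¹ᵁ V) (genericPoint X.left)
        (show π.left (genericPoint X.left) ∈ V from hη ▸ hV) (π.left.app V r) := by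
  rw [funMap, CommRingCat.comp_apply, TopCat.Presheaf.germ_stalkSpecializes_apply, Scheme.Hom.germ_stalkMap_apply]

omit [IsIntegral X.left] in
/-- Functions from the quotient are invariant. -/
theorem invOn_of_base {V : Y.left.Opens} (hinv : GIT.IsInvariant a π) {U : X.left.Opens} (h : U ≤ π.left ⁻¹ᵁ V)
    (r : Γ(Y.left, V)) : InvOn a (π.left.appLE V U h r) := by
  show a.act.left.appLE U _ _ _ = (snd Γ' X).left.appLE U _ _ _
  rw [← CommRingCat.comp_apply, ← CommRingCat.comp_apply, Scheme.Hom.appLE_comp_appLE, Scheme.Hom.appLE_comp_appLE]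
  have hc : ∀ {g g' : (Γ' ⊗ X).left ⟶ Y.left} (_ : g = g') (O : (Γ' ⊗ X).left.Opens) (h₁ h₂),
      g.appLE V O h₁ r = g'.appLE V O h₂ r := by
    rintro g _ rfl O h₁ h₂; rfl
  exact hc hinv.left _ _ _

/-- Independence over `p`-th powers persists in the function field upstairs. -/
theorem indep_funMap (hπ : GIT.IsGeomQuot a π) (p : ℕ) [hp : Fact p.Prime] [CharP Y.left.functionField p]
    [CharP X.left.functionField p] {ι : Type u} (s : Finset ι) :
    ∀ (y : ι → Y.left.functionField), (∀ c : ι → Y.left.functionField, ∑ i ∈ s, c i ^ p * y i = 0 → ∀ i ∈ s, c i = 0) →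
      ∀ f : ι → X.left.functionField, ∑ i ∈ s, f i ^ p * funMap hη (y i) = 0 → ∀ i ∈ s, f i = 0 := by
  classical
  induction s using Finset.strongInduction with
  | H s IH =>
    intro y hy f hf
    by_contra hne
    simp only [not_forall] at hne
    obtain ⟨i₀, hi₀, hf0⟩ := hne
    let s' := s.erase i₀
    have hy' : ∀ c : ι → Y.left.functionField, ∑ i ∈ s', c i ^ p * y i = 0 → ∀ i ∈ s', c i = 0 := by
      intro c hc i hi
      have h := hy (fun j => if j = i₀ then 0 else c j) (by
        rw [← Finset.sum_erase s (a := i₀) (by rw [if_pos rfl, zero_pow hp.out.ne_zero, zero_mul])]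
        refine (Finset.sum_congr rfl fun j hj => ?_).trans hc
        rw [if_neg (Finset.ne_of_mem_erase hj)]) i (Finset.mem_of_mem_erase hi)
      rwa [if_neg (Finset.ne_of_mem_erase hi)] at h
    let g : ι → X.left.functionField := fun i => f i / f i₀
    have hg0 : g i₀ = 1 := div_self hf0
    have hg : ∑ i ∈ s, g i ^ p * funMap hη (y i) = 0 := by
      simp only [g, div_pow, div_mul_eq_mul_div, ← Finset.sum_div, hf, zero_div]
    -- common domain
    obtain ⟨_, ⟨U₀, hU₀, rfl⟩, hξU₀, -⟩ := X.left.isBasis_affineOpens.exists_subset_of_mem_open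
      (Set.mem_univ (genericPoint X.left)) isOpen_univ
    have hget : ∀ i, ∃ (V : Y.left.Opens) (hV : genericPoint Y.left ∈ V) (r : Γ(Y.left, V)),
        Y.left.presheaf.germ V (genericPoint Y.left) hV r = y i := fun i => Y.left.presheaf.germ_exist (y i)
    choose V hV r hr using hget
    have hgetg : ∀ i, ∃ (O : X.left.Opens) (hO : genericPoint X.left ∈ O) (t : Γ(X.left, O)),
        X.left.presheaf.germ O (genericPoint X.left) hO t = g i := fun i => X.left.presheaf.germ_exist (g i)
    choose O hO t ht using hgetg
    let O₁ : X.left.Opens := U₀ ⊓ s.inf fun i => O i ⊓ π.left ⁻¹ᵁ V i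
    have hξ : genericPoint X.left ∈ O₁ := by
      refine ⟨hξU₀, ?_⟩
      refine Finset.inf_induction (p := fun W : X.left.Opens => genericPoint X.left ∈ W) trivial
        (fun W h W' h' => ⟨h, h'⟩) fun i _ => ⟨hO i, show π.left (genericPoint X.left) ∈ V i from hη ▸ hV i⟩
    obtain ⟨_, ⟨U, hU, rfl⟩, hξU, hUO⟩ := X.left.isBasis_affineOpens.exists_subset_of_mem_open hξ O₁.2
    haveI : Nonempty U := ⟨⟨_, hξU⟩⟩
    have hUO' : ∀ i ∈ s, U ≤ O i ⊓ π.left ⁻¹ᵁ V i := fun i hi => (show U ≤ O₁ from hUO).trans (inf_le_right.trans (Finset.inf_le (f := fun i => O i ⊓ π.left ⁻¹ᵁ V i) hi))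
    -- sections on `U`
    let T : {i // i ∈ s} → Γ(X.left, U) := fun i =>
      X.left.presheaf.map (homOfLE ((hUO' i i.2).trans inf_le_left)).op (t i)
    let ρ : {i // i ∈ s} → Γ(X.left, U) := fun i => π.left.appLE (V i) U ((hUO' i i.2).trans inf_le_right) (r i)
    let germU := X.left.presheaf.germ U (genericPoint X.left) hξU
    have hinj : Function.Injective germU := germ_injective_of_isIntegral X.left (genericPoint X.left) hξU
    have hT : ∀ i : {i // i ∈ s}, germU (T i) = g i := fun i => by
      simp only [germU, T, TopCat.Presheaf.germ_res_apply]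
      exact ht i
    have hρ : ∀ i : {i // i ∈ s}, germU (ρ i) = funMap hη (y i) := fun i => by
      rw [← hr, germ_funMap]
      simp only [germU, ρ, Scheme.Hom.appLE, CommRingCat.comp_apply, TopCat.Presheaf.germ_res_apply]
    haveI : CharP Γ(X.left, U) p := (RingHom.charP_iff germU.hom hinj p).2 inferInstance
    have hrelR : ∑ i : {i // i ∈ s}, T i ^ p * ρ i = 0 := by
      apply hinj
      rw [map_zero, map_sum]
      refine Eq.trans ?_ hg
      rw [← Finset.sum_coe_sort s]
      exact Finset.sum_congr rfl fun i _ => by rw [map_mul, map_pow, hT, hρ]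
    let ι' := {i // i ∈ s'}
    let inc : ι' → {i // i ∈ s} := fun i => ⟨i.1, Finset.mem_of_mem_erase i.2⟩
    have hindR : ∀ c : ι' → Γ(X.left, U), ∑ i, c i ^ p * ρ (inc i) = 0 → c = 0 := by
      intro c hc
      funext i
      apply hinj
      let F : ι → X.left.functionField := fun j => if hj : j ∈ s' then germU (c ⟨j, hj⟩) else 0
      have h := IH s' (Finset.erase_ssubset hi₀) y hy' F (by
        rw [← Finset.sum_coe_sort s']
        refine Eq.trans ?_ ((congrArg germU hc).trans (map_zero _))
        rw [map_sum]
        refine Finset.sum_congr rfl fun j _ => ?_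
        rw [map_mul, map_pow, hρ]
        simp only [F, dif_pos j.2, inc]) i i.2
      simp only [F, dif_pos i.2] at h
      rw [h]
      exact (map_zero _).symm
    have hi₀T : T ⟨i₀, hi₀⟩ = 1 := hinj (by rw [hT, map_one]; exact hg0)
    -- the sections are invariant
    have hinvT : ∀ i : {i // i ∈ s}, InvOn a (T i) := by
      haveI := smooth_act a
      intro i
      refine TopCat.Presheaf.section_ext (Γ' ⊗ X).left.sheaf (ovl a U) _ _ fun z hz => ?_
      obtain ⟨_, ⟨W, hW, rfl⟩, hzW, hWle⟩ :=
        (Γ' ⊗ X).left.isBasis_affineOpens.exists_subset_of_mem_open hz (ovl a U).2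
      have hWa : W ≤ a.act.left ⁻¹ᵁ U := fun w hw => (hWle hw).1
      have hWs : W ≤ (snd Γ' X).left ⁻¹ᵁ U := fun w hw => (hWle hw).2
      algebraize [((snd Γ' X).left.appLE U W hWs).hom]
      haveI : Algebra.Smooth Γ(X.left, U) Γ((Γ' ⊗ X).left, W) := (snd Γ' X).left.smooth_appLE hU hW hWs
      let σ := (a.act.left.appLE U W hWa).hom
      let τ := ((snd Γ' X).left.appLE U W hWs).hom
      have hστ : ∀ j : {i // i ∈ s}, σ (ρ j) = τ (ρ j) := fun j => by
        have h := congrArg ((Γ' ⊗ X).left.presheaf.map (homOfLE (show W ≤ ovl a U from hWle)).op)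
          (invOn_of_base hπ.inv ((hUO' j j.2).trans inf_le_right) (r j))
        rwa [res_appLE, res_appLE] at h
      have hd : ∀ j : ι', σ (T (inc j)) - τ (T (inc j)) = 0 := by
        rcases subsingleton_or_nontrivial Γ((Γ' ⊗ X).left, W) with hs | hn
        · exact fun j => Subsingleton.elim _ _
        haveI : CharP Γ((Γ' ⊗ X).left, W) p := by
          obtain ⟨q, hq⟩ := CharP.exists Γ((Γ' ⊗ X).left, W)
          have h0 : (p : Γ((Γ' ⊗ X).left, W)) = 0 := by
            rw [← map_natCast τ p, CharP.cast_eq_zero Γ(X.left, U) p, map_zero]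
          rcases (Nat.dvd_prime hp.out).1 ((CharP.cast_eq_zero_iff _ q p).1 h0) with h1 | h1
          · subst h1
            exact absurd (CharP.char_ne_one Γ((Γ' ⊗ X).left, W) 1 rfl) not_false
          · exact h1 ▸ hq
        haveI : ExpChar Γ((Γ' ⊗ X).left, W) p := ExpChar.prime hp.out
        have key := eq_zero_of_sum_pow_smooth p (fun j : ι' => ρ (inc j)) hindR
          (fun j => σ (T (inc j)) - τ (T (inc j))) ?_
        · exact fun j => congrFun key j
        · have h1 := congrArg σ hrelR
          have h2 := congrArg τ hrelR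
          simp only [map_sum, map_zero, map_mul, map_pow, hστ] at h1 h2
          have h3 : ∑ j : {i // i ∈ s}, (σ (T j) - τ (T j)) ^ p * τ (ρ j) = 0 := by
            simp only [sub_pow_char, sub_mul, Finset.sum_sub_distrib, h1, h2, sub_zero]
          rw [← Finset.sum_erase Finset.univ (a := (⟨i₀, hi₀⟩ : {i // i ∈ s})) (by
            rw [hi₀T, map_one, map_one, sub_self, zero_pow hp.out.ne_zero, zero_mul])] at h3
          refine Eq.trans ?_ h3
          refine Finset.sum_bij (fun j _ => inc j) (fun j _ => Finset.mem_erase.2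
            ⟨fun h => Finset.ne_of_mem_erase j.2 (congrArg Subtype.val h), Finset.mem_univ _⟩)
            (fun j _ j' _ h => Subtype.ext (congrArg (fun v : {i // i ∈ s} => v.1) h)) (fun j hj => ?_) fun j _ => rfl
          exact ⟨⟨j.1, Finset.mem_erase.2 ⟨fun h => (Finset.mem_erase.1 hj).1 (Subtype.ext h), j.2⟩⟩,
            Finset.mem_univ _, rfl⟩
      have hfin : σ (T i) = τ (T i) := by
        by_cases hii : i.1 = i₀
        · rw [show i = ⟨i₀, hi₀⟩ from Subtype.ext hii, hi₀T, map_one, map_one]
        · exact sub_eq_zero.1 (hd ⟨i.1, Finset.mem_erase.2 ⟨hii, i.2⟩⟩)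
      have := congrArg ((Γ' ⊗ X).left.presheaf.germ W z hzW) hfin
      simp only [σ, τ, Scheme.Hom.appLE, CommRingCat.comp_apply, TopCat.Presheaf.germ_res_apply] at this ⊢
      show (Γ' ⊗ X).left.presheaf.germ (ovl a U) z hz _ = (Γ' ⊗ X).left.presheaf.germ (ovl a U) z hz _
      erw [TopCat.Presheaf.germ_res_apply, TopCat.Presheaf.germ_res_apply]
      exact this
    have hdesc : ∀ i : {i // i ∈ s}, ∃ c : Y.left.functionField, funMap hη c = g i := fun i => by
      obtain ⟨V', r', hV', hξ', he⟩ := exists_of_invOn (U := U) hπ ⟨_, hξU⟩ (hinvT i)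
      refine ⟨Y.left.presheaf.germ V' (genericPoint Y.left)
        (hη ▸ (show π.left (genericPoint X.left) ∈ V' from hV')) r', ?_⟩
      rw [germ_funMap, he]
      exact hT i
    choose c hc using hdesc
    let c' : ι → Y.left.functionField := fun i => if hi : i ∈ s then c ⟨i, hi⟩ else 0
    have hz := hy c' (by
      apply (funMap hη).hom.injective
      rw [map_zero, map_sum]
      refine Eq.trans (Finset.sum_congr rfl fun i hi => ?_) hg
      rw [map_mul, map_pow]
      simp only [c', dif_pos hi, hc]) i₀ hi₀
    have := hc ⟨i₀, hi₀⟩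
    simp only [c', dif_pos hi₀] at hz
    rw [hz, map_zero, hg0] at this
    exact zero_ne_one this

/-- The function field upstairs is geometrically reduced over the one of the quotient. -/
theorem isGeometricallyReduced_funMap (hπ : GIT.IsGeomQuot a π) :
    letI := (funMap hη).hom.toAlgebra
    Algebra.IsGeometricallyReduced Y.left.functionField X.left.functionField := by
  letI := (funMap hη).hom.toAlgebra
  rcases CharP.exists' Y.left.functionField with h0 | ⟨p, hp, hc⟩
  · haveI := h0
    exact Sep.isGeometricallyReduced_of_charZero _ _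
  · haveI := hp
    haveI := hc
    haveI : CharP X.left.functionField p := charP_of_injective_ringHom (funMap hη).hom.injective p
    haveI := isReduced_tensor_frobK (E := Y.left.functionField) (L := X.left.functionField) p
      fun ι s => indep_funMap hη hπ p s
    exact GeomRed.isGeometricallyReduced_of_frobK _ p _

end Groth.Agent.GQGen14
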